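import Cfsg.Agent.AbelianConj.Quotient

/-!
Quotients of groups in which abelian subgroups of the same order are conjugate inherit the property,
given a bound on quaternion Sylow subgroups.
-/

set_option autoImplicit false
set_option linter.style.haveILetI false

namespace CfsgLib.AbelianConj

open Subgroup

variable {G : Type*} [Group G] [Finite G] {M : Subgroup G} [hM : M.Normal]

/-- The image of a `p`-part lies outside `M` exactly when `p` divides the order of the image. -/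
theorem IsLift.part_le_iff {X T H : Subgroup G} {p : ℕ} [hp : Fact p.Prime]
    (hTX : T ≤ X) (hT : IsPGroup p ↥T) (hco : (Nat.card ↥H).Coprime p)
    (hmul : ∀ x ∈ X, ∃ t ∈ T, ∃ h ∈ H, x = t * h) :
    T ≤ M ↔ ¬ p ∣ Nat.card ↥(X.map (QuotientGroup.mk' M)) := by
  set π := QuotientGroup.mk' M
  constructor
  · intro hle hdvd
    have h1 : X.map π ≤ H.map π := by
      rintro _ ⟨x, hx, rfl⟩
      obtain ⟨t, ht, h, hh, rfl⟩ := hmul x hx
      rw [map_mul, show π t = 1 from (QuotientGroup.eq_one_iff t).mpr (hle ht), one_mul]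
      exact mem_map_of_mem _ hh
    have h2 : p ∣ Nat.card ↥H :=
      (hdvd.trans (Subgroup.card_dvd_of_le h1)).trans (H.card_map_dvd π)
    exact hp.out.coprime_iff_not_dvd.mp hco.symm h2
  · intro hnd t ht
    rw [← QuotientGroup.eq_one_iff]
    change π t = 1
    obtain ⟨i, hi'⟩ := IsPGroup.iff_orderOf.mp hT ⟨t, ht⟩
    rw [Subgroup.orderOf_mk] at hi'
    rw [← orderOf_eq_one_iff, ← Nat.dvd_one]
    have h1 : orderOf (π t) ∣ Nat.card ↥(X.map π) :=
      (X.map π).orderOf_dvd_natCard (mem_map_of_mem _ (hTX ht))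
    have h2 : orderOf (π t) ∣ p ^ i := hi' ▸ orderOf_map_dvd π t
    have := Nat.dvd_gcd h2 h1
    rwa [((hp.out.coprime_iff_not_dvd.mpr hnd).pow_left i).gcd_eq_one] at this

/-- A `p`-part inside `M` is trivial. -/
theorem IsLift.part_eq_bot {X T H : Subgroup G} {p : ℕ} [hp : Fact p.Prime] (hX : IsLift M X)
    (hTX : T ≤ X) (hHX : H ≤ X) (hT : IsPGroup p ↥T) (hco : (Nat.card ↥H).Coprime p)
    (hmul : ∀ x ∈ X, ∃ t ∈ T, ∃ h ∈ H, x = t * h) (hle : T ≤ M) : T = ⊥ := by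
  have htop : H.subgroupOf X = ⊤ := by
    refine Solvable.eq_top_of_sup_frattini (eq_top_iff.mpr fun x _ => ?_)
    obtain ⟨t, ht, h, hh, hx⟩ := hmul x x.2
    have : x = ⟨t, hTX ht⟩ * ⟨h, hHX hh⟩ := Subtype.ext hx
    rw [this]
    exact mul_mem (mem_sup_right (hX.le_frattini _ (hle ht))) (mem_sup_left hh)
  rw [subgroupOf_eq_top] at htop
  refine (eq_bot_iff_forall _).mpr fun t ht => ?_
  rw [← orderOf_eq_one_iff, ← Nat.dvd_one]
  obtain ⟨i, hi⟩ := IsPGroup.iff_orderOf.mp hT ⟨t, ht⟩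
  rw [Subgroup.orderOf_mk] at hi
  have h1 := H.orderOf_dvd_natCard (htop (hTX ht))
  have := Nat.dvd_gcd h1 (dvd_refl (orderOf t))
  rw [hi] at this h1 ⊢
  exact Nat.dvd_one.mpr (Nat.eq_one_of_dvd_coprimes (hco.pow_right i) h1 dvd_rfl)

/-- The order of the `p`-part of `X ⊓ M`. -/
theorem IsLift.card_inf (hB : Hyp G) (hQ : SmallQuaternion M) {X : Subgroup G} (hX : IsLift M X)
    (p : ℕ) [hp : Fact p.Prime] (P : Sylow p G) :
    p ^ (Nat.card ↥(X ⊓ M)).factorization p =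
      if p ∣ Nat.card ↥(X.map (QuotientGroup.mk' M)) then Nat.card ↥((P : Subgroup G) ⊓ M) else 1 := by
  obtain ⟨T, H, hTX, hHX, hT, hco, hmem, -, hmul, -⟩ := exists_part hX.isNilpotent p
  -- the `p`-part of the intersection
  obtain ⟨S⟩ : Nonempty (Sylow p ↥(X ⊓ M)) := inferInstance
  have hS : Nat.card ↥(T ⊓ M) = p ^ (Nat.card ↥(X ⊓ M)).factorization p := by
    rw [← S.card_eq_multiplicity]
    refine le_antisymm ?_ ?_
    · have hTM : IsPGroup p ↥((T ⊓ M).subgroupOf (X ⊓ M)) :=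
        (hT.to_le inf_le_left).comap_of_injective (X ⊓ M).subtype (X ⊓ M).subtype_injective
      obtain ⟨S', hS'⟩ := hTM.exists_le_sylow
      rw [← Nat.card_congr (subgroupOfEquivOfLe (inf_le_inf_right M hTX)).toEquiv,
        S.card_eq_multiplicity, ← S'.card_eq_multiplicity]
      exact Subgroup.card_le_of_le hS'
    · rw [← Subgroup.card_map_of_injective (X ⊓ M).subtype_injective (K := (S : Subgroup ↥(X ⊓ M)))]
      refine Subgroup.card_le_of_le ?_
      rintro _ ⟨s, hs, rfl⟩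
      obtain ⟨i, hi⟩ := NilpotentCover.exists_orderOf_of_mem S hs
      exact ⟨hmem _ s.2.1 ⟨i, by rw [Subgroup.coe_subtype, Subgroup.orderOf_coe, hi]⟩, s.2.2⟩
  rw [← hS]
  have hiff := IsLift.part_le_iff (M := M) hTX hT hco hmul
  split_ifs with hdvd
  · have hnle : ¬ T ≤ M := fun h => hiff.mp h hdvd
    obtain ⟨u, huT, hu⟩ := SetLike.not_le_iff_exists.mp hnle
    obtain ⟨P', hP'⟩ := hT.exists_le_sylow
    obtain ⟨g, rfl⟩ := MulAction.exists_smul_eq G P P'
    have hconj : Nat.card ↥((↑(g • P) : Subgroup G) ⊓ M) = Nat.card ↥((P : Subgroup G) ⊓ M) := by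
      have hMg : M.map (MulAut.conj g).toMonoidHom = M := by
        refine Subgroup.eq_of_le_of_card_ge ?_ (le_of_eq
          (Nat.card_congr (equivMapOfInjective M _ (MulAut.conj g).injective).toEquiv))
        rintro _ ⟨m, hm, rfl⟩
        simpa using hM.conj_mem m hm g
      have h1 : ((↑(g • P) : Subgroup G)) = (P : Subgroup G).map (MulAut.conj g).toMonoidHom := rfl
      have h2 := Subgroup.map_inf (P : Subgroup G) M (MulAut.conj g).toMonoidHom (MulAut.conj g).injective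
      rw [hMg, ← h1] at h2
      rw [← h2, Subgroup.card_map_of_injective (MulAut.conj g).injective]
    rw [← hconj]
    by_cases hpM : p ∣ Nat.card ↥M
    · obtain ⟨hle, -⟩ := IsLift.part_facts hB hQ hpM hT hTX huT hu (g • P) hP'
      exact congrArg (fun K : Subgroup G => Nat.card ↥K)
        (le_antisymm (inf_le_inf_right M hP') (le_inf hle inf_le_right))
    · have hb : ∀ K : Subgroup G, IsPGroup p ↥K → Nat.card ↥(K ⊓ M) = 1 := by
        intro K hK
        obtain ⟨k, hk⟩ := (hK.to_le (inf_le_left : K ⊓ M ≤ K)).exists_card_eq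
        rcases Nat.eq_zero_or_pos k with rfl | hk0
        · simpa using hk
        · exact absurd ((hk ▸ dvd_pow_self p hk0.ne').trans
            (Subgroup.card_dvd_of_le (inf_le_right : K ⊓ M ≤ M))) hpM
      rw [hb T hT, hb _ (g • P).isPGroup']
  · rw [hX.part_eq_bot hTX hHX hT hco hmul (hiff.mpr hdvd)]
    simp

theorem IsLift.card_eq (hB : Hyp G) (hQ : SmallQuaternion M) {X Y : Subgroup G} (hX : IsLift M X)
    (hY : IsLift M Y)
    (h : Nat.card ↥(X.map (QuotientGroup.mk' M)) = Nat.card ↥(Y.map (QuotientGroup.mk' M))) :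
    Nat.card ↥X = Nat.card ↥Y := by
  have hsplit : ∀ Z : Subgroup G,
      Nat.card ↥Z = Nat.card ↥(Z ⊓ M) * Nat.card ↥(Z.map (QuotientGroup.mk' M)) := by
    intro Z
    rw [← Subgroup.relIndex_ker, QuotientGroup.ker_mk', ← Subgroup.inf_relIndex_left Z M,
      ← Subgroup.relIndex_bot_left, ← Subgroup.relIndex_bot_left,
      Subgroup.relIndex_mul_relIndex _ _ _ bot_le inf_le_left]
  rw [hsplit X, hsplit Y, h]
  congr 1
  refine Nat.eq_of_factorization_eq Nat.card_pos.ne' Nat.card_pos.ne' fun p => ?_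
  by_cases hp : p.Prime
  · haveI := Fact.mk hp
    obtain ⟨P⟩ : Nonempty (Sylow p G) := inferInstance
    refine Nat.pow_right_injective hp.two_le ?_
    show p ^ _ = p ^ _
    rw [hX.card_inf hB hQ p P, hY.card_inf hB hQ p P, h]
  · rw [Nat.factorization_eq_zero_of_not_prime _ hp, Nat.factorization_eq_zero_of_not_prime _ hp]

/-- The parts at odd primes are abelian; at two, abelian or a full Sylow subgroup of order eight. -/
theorem IsLift.part_comm (hB : Hyp G) (hQ : SmallQuaternion M) {X T H : Subgroup G}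
    {p : ℕ} [hp : Fact p.Prime] (hX : IsLift M X)
    (hTX : T ≤ X) (hHX : H ≤ X) (hT : IsPGroup p ↥T) (hco : (Nat.card ↥H).Coprime p)
    (hmul : ∀ x ∈ X, ∃ t ∈ T, ∃ h ∈ H, x = t * h) :
    IsMulCommutative ↥T ∨
      (p = 2 ∧ Nat.card ↥T = 8 ∧ ∃ P : Sylow p G, T = (P : Subgroup G)) := by
  by_cases hTM : T ≤ M
  · left
    have hbot := hX.part_eq_bot hTX hHX hT hco hmul hTM
    refine ⟨⟨fun a b => Subtype.ext ?_⟩⟩
    have ha : (a : G) = 1 := mem_bot.mp (hbot.le a.2)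
    have hb : (b : G) = 1 := mem_bot.mp (hbot.le b.2)
    simp [ha, hb]
  by_cases hpM : p ∣ Nat.card ↥M
  · obtain ⟨u, huT, hu⟩ := SetLike.not_le_iff_exists.mp hTM
    obtain ⟨P, hP⟩ := hT.exists_le_sylow
    obtain ⟨-, h | ⟨h1, h2, h3⟩⟩ := IsLift.part_facts hB hQ hpM hT hTX huT hu P hP
    · exact Or.inl h
    · exact Or.inr ⟨h1, h2, P, h3⟩
  · left
    refine ⟨⟨fun a b => Subtype.ext ?_⟩⟩
    have hc : (a : G) * b * (a : G)⁻¹ * (b : G)⁻¹ ∈ T ⊓ M :=
      ⟨T.mul_mem (T.mul_mem (T.mul_mem a.2 b.2) (T.inv_mem a.2)) (T.inv_mem b.2),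
        hX.comm a (hTX a.2) b (hTX b.2)⟩
    have hb : T ⊓ M = ⊥ := by
      obtain ⟨k, hk⟩ := (hT.to_le (inf_le_left : T ⊓ M ≤ T)).exists_card_eq
      rcases Nat.eq_zero_or_pos k with rfl | hk0
      · exact Subgroup.eq_bot_of_card_eq _ (by simpa using hk)
      · exact absurd ((hk ▸ dvd_pow_self p hk0.ne').trans
          (Subgroup.card_dvd_of_le (inf_le_right : T ⊓ M ≤ M))) hpM
    rw [hb, mem_bot, mul_inv_eq_one, mul_inv_eq_iff_eq_mul] at hc
    exact hc

/-- Subgroups of a lift without a bad two-part are abelian. -/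
theorem IsLift.isMulCommutative_of_le (hB : Hyp G) (hQ : SmallQuaternion M) {X K : Subgroup G}
    (hX : IsLift M X) (hK : K ≤ X)
    (h2 : ∀ a ∈ K, ∀ b ∈ K, (∃ i, orderOf a = 2 ^ i) → (∃ j, orderOf b = 2 ^ j) → Commute a b) :
    IsMulCommutative ↥K := by
  have key : ∀ a ∈ K, ∀ b ∈ K, ∀ q r : ℕ, q.Prime → r.Prime → (∃ i, orderOf a = q ^ i) →
      (∃ j, orderOf b = r ^ j) → Commute a b := by
    intro a ha b hb q r hq hr ⟨i, hi⟩ ⟨j, hj⟩
    rcases eq_or_ne q r with rfl | hqr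
    · rcases eq_or_ne q 2 with rfl | hq2
      · exact h2 a ha b hb ⟨i, hi⟩ ⟨j, hj⟩
      haveI := Fact.mk hq
      obtain ⟨T, H, hTX, hHX, hT, hco, hmem, -, hmul, -⟩ := exists_part hX.isNilpotent q
      obtain hc | ⟨h, -⟩ := hX.part_comm hB hQ hTX hHX hT hco hmul
      · exact congrArg Subtype.val
          (hc.is_comm.comm ⟨a, hmem a (hK ha) ⟨i, hi⟩⟩ ⟨b, hmem b (hK hb) ⟨j, hj⟩⟩)
      · exact absurd h hq2
    · exact NilpotentCover.commute_of_coprime_mem hX.isNilpotent (hK ha) (hK hb)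
        (by rw [hi, hj]; exact Nat.coprime_pow_primes _ _ hq hr hqr)
  refine ⟨⟨fun x y => Subtype.ext ?_⟩⟩
  have hy : (y : G) ∈ centralizer ({(x : G)} : Set G) := by
    refine MaxCentralizer.mem_of_primePow _ _ fun b hb r hr hbr => ?_
    have hx : (x : G) ∈ centralizer ({b} : Set G) :=
      MaxCentralizer.mem_of_primePow _ _ fun a ha q hq haq =>
        mem_centralizer_singleton_iff.mpr (key a (zpowers_le.mpr x.2 ha) b (zpowers_le.mpr y.2 hb)
          q r hq hr haq hbr).eq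
    exact mem_centralizer_singleton_iff.mpr (mem_centralizer_singleton_iff.mp hx).symm
  exact (mem_centralizer_singleton_iff.mp hy).symm

/-- The quotient has the same property. -/
theorem hyp_quotient (hB : Hyp G) (hQ : SmallQuaternion M) : Hyp (G ⧸ M) := by
  intro A B hA hA' hAB
  obtain ⟨X, hX, rfl⟩ := exists_lift M A hA
  obtain ⟨Y, hY, rfl⟩ := exists_lift M B hA'
  have hcard := hX.card_eq hB hQ hY hAB
  suffices ∃ g : G, Y = X.map (MulAut.conj g).toMonoidHom by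
    obtain ⟨g, rfl⟩ := this
    refine ⟨QuotientGroup.mk' M g, ?_⟩
    rw [map_map, map_map]
    congr 1
  obtain ⟨T, H, hTX, hHX, hT, hco, hmem, hcom, hmul, hprod⟩ :=
    exists_part hX.isNilpotent 2
  obtain ⟨T', H', hTY, hHY, hT', hco', hmem', hcom', hmul', hprod'⟩ :=
    exists_part hY.isNilpotent 2
  have habel : ∀ {Z T₀ : Subgroup G}, IsLift M Z → IsMulCommutative ↥T₀ →
      (∀ x ∈ Z, (∃ i, orderOf x = 2 ^ i) → x ∈ T₀) → IsMulCommutative ↥Z := fun hZ hc hm =>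
    hZ.isMulCommutative_of_le hB hQ le_rfl fun a ha b hb hai hbj =>
      congrArg Subtype.val (hc.is_comm.comm ⟨a, hm a ha hai⟩ ⟨b, hm b hb hbj⟩)
  have h2part : Nat.card ↥T = Nat.card ↥T' := by
    have key : ∀ T₁ H₁ T₂ H₂ : Subgroup G, IsPGroup 2 ↥T₁ → (Nat.card ↥H₂).Coprime 2 →
        Nat.card ↥T₁ * Nat.card ↥H₁ = Nat.card ↥T₂ * Nat.card ↥H₂ →
        Nat.card ↥T₁ ∣ Nat.card ↥T₂ := by
      intro T₁ H₁ T₂ H₂ h1 h2 h3
      obtain ⟨k, hk⟩ := h1.exists_card_eq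
      refine Nat.Coprime.dvd_of_dvd_mul_right ?_ (h3 ▸ dvd_mul_right _ (Nat.card ↥H₁))
      rw [hk]; exact (h2.symm).pow_left k
    have he : Nat.card ↥T * Nat.card ↥H = Nat.card ↥T' * Nat.card ↥H' := by
      rw [hprod, hprod', hcard]
    exact Nat.dvd_antisymm (key T H T' H' hT hco' he) (key T' H' T H hT' hco he.symm)
  have hTsyl : ∀ {P : Sylow 2 G} {T₀ : Subgroup G}, IsPGroup 2 ↥T₀ →
      Nat.card ↥T₀ = Nat.card ↥(P : Subgroup G) → ∃ S : Sylow 2 G, (S : Subgroup G) = T₀ := by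
    intro P T₀ h0 hc
    obtain ⟨S, hS⟩ := h0.exists_le_sylow
    exact ⟨S, (Subgroup.eq_of_le_of_card_ge hS
      (by rw [hc, P.card_eq_multiplicity, S.card_eq_multiplicity])).symm⟩
  by_cases hgood : IsMulCommutative ↥T ∧ IsMulCommutative ↥T'
  · exact hB X Y (habel hX hgood.1 hmem) (habel hY hgood.2 hmem') hcard
  obtain ⟨P, hP⟩ : ∃ P : Sylow 2 G, Nat.card ↥T = Nat.card ↥(P : Subgroup G) := by
    by_contra hno
    push Not at hno
    refine hgood ⟨?_, ?_⟩
    · obtain h | ⟨-, -, P, hP⟩ := hX.part_comm hB hQ hTX hHX hT hco hmul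
      · exact h
      · exact absurd (by rw [hP]) (hno P)
    · obtain h | ⟨-, -, P, hP⟩ := hY.part_comm hB hQ hTY hHY hT' hco' hmul'
      · exact h
      · exact absurd (by rw [h2part, hP]) (hno P)
  have hH : ∀ {Z K : Subgroup G}, IsLift M Z → K ≤ Z → (Nat.card ↥K).Coprime 2 →
      IsMulCommutative ↥K := fun hZ hK hc => hZ.isMulCommutative_of_le hB hQ hK
    fun a ha b _ ⟨i, hi⟩ _ => by
      have ha1 : a = 1 := by
        rw [← orderOf_eq_one_iff, hi]
        exact Nat.eq_one_of_dvd_coprimes (hc.pow_right i) (hi ▸ Subgroup.orderOf_dvd_natCard _ ha) dvd_rfl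
      rw [ha1]; exact Commute.one_left b
  have hHcard : Nat.card ↥H = Nat.card ↥H' := by
    refine Nat.eq_of_mul_eq_mul_left (Nat.card_pos (α := ↥T)) ?_
    rw [hprod, h2part, hprod', hcard]
  obtain ⟨g, hg⟩ := hB H H' (hH hX hHX hco) (hH hY hHY hco') hHcard
  -- the two Sylow subgroups of the centralizer of `H'`
  set C := centralizer (H' : Set G) with hC
  have hTC : T.map (MulAut.conj g).toMonoidHom ≤ C := by
    rintro _ ⟨t, ht, rfl⟩
    rw [hC, mem_centralizer_iff]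
    intro h hh
    rw [SetLike.mem_coe, hg] at hh
    obtain ⟨h₀, hh₀, rfl⟩ := hh
    rw [← map_mul, ← map_mul, (hcom t ht h₀ hh₀).eq]
  have hT'C : T' ≤ C := fun t ht => mem_centralizer_iff.mpr fun h hh => (hcom' t ht h hh).eq.symm
  have hTg : IsPGroup 2 ↥(T.map (MulAut.conj g).toMonoidHom) := hT.map _
  have hTgc : Nat.card ↥(T.map (MulAut.conj g).toMonoidHom) = Nat.card ↥(P : Subgroup G) := by
    rw [Subgroup.card_map_of_injective (MulAut.conj g).injective, hP]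
  obtain ⟨S₁, hS₁⟩ := hTsyl hTg hTgc
  obtain ⟨S₂, hS₂⟩ := hTsyl hT' (h2part ▸ hP)
  obtain ⟨c, hc⟩ := MulAction.exists_smul_eq ↥C (S₁.subtype (hS₁ ▸ hTC)) (S₂.subtype (hS₂ ▸ hT'C))
  have hcT : ∀ t ∈ T, (c : G) * (g * t * g⁻¹) * (c : G)⁻¹ ∈ T' := by
    intro t ht
    have h1 : (⟨g * t * g⁻¹, hTC ⟨t, ht, by simp⟩⟩ : ↥C) ∈ (S₁.subtype (hS₁ ▸ hTC) : Subgroup ↥C) := by
      show g * t * g⁻¹ ∈ (S₁ : Subgroup G)
      rw [hS₁]; exact ⟨t, ht, by simp⟩
    have h2 : c * ⟨g * t * g⁻¹, hTC ⟨t, ht, by simp⟩⟩ * c⁻¹ ∈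
        ((c • S₁.subtype (hS₁ ▸ hTC) : Sylow 2 ↥C) : Subgroup ↥C) := ⟨_, h1, rfl⟩
    rw [hc] at h2
    change (c : G) * (g * t * g⁻¹) * (c : G)⁻¹ ∈ (S₂ : Subgroup G) at h2
    rwa [hS₂] at h2
  refine ⟨(c : G) * g, (Subgroup.eq_of_le_of_card_ge ?_ ?_).symm⟩
  · rintro _ ⟨x, hx, rfl⟩
    obtain ⟨t, ht, h, hh, rfl⟩ := hmul x hx
    have hh' : g * h * g⁻¹ ∈ H' := hg ▸ ⟨h, hh, by simp⟩
    have hfix : (c : G) * (g * h * g⁻¹) * (c : G)⁻¹ = g * h * g⁻¹ := by
      rw [← mem_centralizer_iff.mp c.2 _ hh', mul_inv_cancel_right]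
    have h3 : (MulAut.conj ((c : G) * g)).toMonoidHom (t * h) =
        (c : G) * (g * t * g⁻¹) * (c : G)⁻¹ * (g * h * g⁻¹) := by
      conv_rhs => arg 2; rw [← hfix]
      simp only [MulEquiv.coe_toMonoidHom, MulAut.conj_apply]
      group
    rw [h3]
    exact mul_mem (hTY (hcT t ht)) (hHY hh')
  · rw [Subgroup.card_map_of_injective (MulAut.conj _).injective, hcard]

end CfsgLib.AbelianConj
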