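import Cfsg.Agent.NilpotentCover.AbelianSylow
import Cfsg.Agent.TwoGroupsQ.UniqueInvolution
import Cfsg.Agent.MaxCentralizer.Basic
import Cfsg.Agent.Solvable.Frattini

/-!
Groups in which abelian subgroups of the same order are conjugate: passage to quotients by
minimal supplements.
-/

set_option autoImplicit false
set_option linter.style.haveILetI false

namespace CfsgLib.AbelianConj

open Subgroup

variable {G : Type*} [Group G]

/-- Any two abelian subgroups of the same order are conjugate. -/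
def Hyp (G : Type*) [Group G] : Prop :=
  ∀ A B : Subgroup G, IsMulCommutative ↥A → IsMulCommutative ↥B → Nat.card ↥A = Nat.card ↥B →
    ∃ g : G, B = A.map (MulAut.conj g).toMonoidHom

theorem isMulCommutative_zpowers (x : G) : IsMulCommutative ↥(zpowers x) := by
  refine ⟨⟨fun a b => Subtype.ext ?_⟩⟩
  obtain ⟨i, hi⟩ := a.2
  obtain ⟨j, hj⟩ := b.2
  show (a : G) * b = b * a
  rw [← hi, ← hj]
  exact ((Commute.refl x).zpow_zpow i j).eq

theorem exists_conj_mem [Finite G] (hB : Hyp G) {x y : G} (h : orderOf x = orderOf y) :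
    ∃ g : G, g * x * g⁻¹ ∈ zpowers y := by
  obtain ⟨g, hg⟩ := hB _ _ (isMulCommutative_zpowers x) (isMulCommutative_zpowers y)
    (by rw [Nat.card_zpowers, Nat.card_zpowers, h])
  exact ⟨g, by rw [hg]; exact ⟨x, mem_zpowers x, by simp⟩⟩

/-- A normal subgroup contains every element of the order of one of its elements. -/
theorem mem_of_orderOf_eq [Finite G] (hB : Hyp G) {M : Subgroup G} [hM : M.Normal] {x y : G}
    (h : orderOf x = orderOf y) (hy : y ∈ M) : x ∈ M := by
  obtain ⟨g, hg⟩ := exists_conj_mem hB h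
  have := hM.conj_mem _ (zpowers_le.mpr hy hg) g⁻¹
  simpa [mul_assoc] using this

/-- A `p`-subgroup with an element of order `p²` has a unique subgroup of order `p`. -/
theorem hasUniqueOrderP [Finite G] (hB : Hyp G) {p : ℕ} [hp : Fact p.Prime] {P : Subgroup G}
    (hP : IsPGroup p ↥P) {u : G} (hu : orderOf u = p ^ 2) :
    TwoGroupsQ.HasUniqueOrderP ↥P p := by
  intro x y hx hy hy1
  by_contra hxy
  have hnt : Nontrivial ↥P := ⟨⟨y, 1, hy1⟩⟩
  haveI := hP.center_nontrivial
  obtain ⟨z, hz⟩ := exists_prime_orderOf_dvd_card' (G := ↥(center ↥P)) p (by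
    obtain ⟨e, he⟩ := (hP.to_subgroup (center ↥P)).exists_card_eq
    rw [he]
    exact dvd_pow_self p fun h0 => by
      have h1 := Finite.one_lt_card (α := ↥(center ↥P))
      rw [he, h0] at h1
      exact lt_irrefl _ h1)
  have hzp : (z : ↥P) ^ p = 1 := by rw [← coe_pow, ← hz, pow_orderOf_eq_one, coe_one]
  have hzo : orderOf (z : ↥P) = p := by rw [orderOf_coe, hz]
  obtain ⟨w, hw, hwz⟩ : ∃ w : ↥P, w ^ p = 1 ∧ w ∉ zpowers (z : ↥P) := by
    by_contra hcon
    push Not at hcon
    refine hxy ?_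
    have heq : zpowers y = zpowers (z : ↥P) := by
      refine Subgroup.eq_of_le_of_card_ge (zpowers_le.mpr (hcon y hy)) ?_
      rw [Nat.card_zpowers, Nat.card_zpowers, hzo, orderOf_eq_prime hy hy1]
    rw [heq]
    exact hcon x hx
  set E := zpowers ((z : ↥P) : G) ⊔ zpowers (w : G) with hE
  have hcom : Commute ((z : ↥P) : G) (w : G) :=
    congrArg Subtype.val ((mem_center_iff.mp z.2 w).symm)
  have hgens : ∀ a ∈ E, ∃ i j : ℤ, a = ((z : ↥P) : G) ^ i * (w : G) ^ j := by
    intro a ha
    rw [hE, zpowers_eq_closure, zpowers_eq_closure, ← Subgroup.closure_union] at ha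
    induction ha using Subgroup.closure_induction with
    | mem a ha =>
      rcases ha with rfl | rfl
      · exact ⟨1, 0, by simp⟩
      · exact ⟨0, 1, by simp⟩
    | one => exact ⟨0, 0, by simp⟩
    | mul a b _ _ ha hb =>
      obtain ⟨i, j, rfl⟩ := ha
      obtain ⟨i', j', rfl⟩ := hb
      refine ⟨i + i', j + j', ?_⟩
      rw [zpow_add, zpow_add, mul_assoc, mul_assoc]
      congr 1
      rw [← mul_assoc, ← (hcom.zpow_zpow i' j).eq, mul_assoc]
    | inv a _ ha =>
      obtain ⟨i, j, rfl⟩ := ha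
      exact ⟨-i, -j, by rw [zpow_neg, zpow_neg, _root_.mul_inv_rev,
        ((hcom.zpow_zpow i j).inv_inv).eq]⟩
  have hEcomm : IsMulCommutative ↥E := by
    refine ⟨⟨fun a b => Subtype.ext ?_⟩⟩
    obtain ⟨i, j, ha⟩ := hgens a a.2
    obtain ⟨i', j', hb⟩ := hgens b b.2
    show (a : G) * b = b * a
    rw [ha, hb]
    exact ((((Commute.refl _).zpow_zpow i i').mul_right (hcom.zpow_zpow i j')).mul_left
      (((hcom.zpow_zpow i' j).symm).mul_right ((Commute.refl _).zpow_zpow j j'))).eq
  have hEpow : ∀ a ∈ E, a ^ p = 1 := by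
    intro a ha
    obtain ⟨i, j, rfl⟩ := hgens a ha
    rw [(hcom.zpow_zpow i j).mul_pow, ← zpow_natCast, ← zpow_natCast, ← zpow_mul, ← zpow_mul,
      mul_comm i, mul_comm j, zpow_mul, zpow_mul, zpow_natCast, zpow_natCast]
    rw [show ((z : ↥P) : G) ^ p = 1 from by exact_mod_cast congrArg Subtype.val hzp,
      show (w : G) ^ p = 1 from by exact_mod_cast congrArg Subtype.val hw, one_zpow, one_zpow, one_mul]
  have hEP : E ≤ P := sup_le (zpowers_le.mpr (z : ↥P).2) (zpowers_le.mpr w.2)
  have hEcard : Nat.card ↥E = p ^ 2 := by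
    have hlow : p < Nat.card ↥E := by
      refine lt_of_le_of_ne ?_ fun heq => hwz ?_
      · refine le_trans (le_of_eq ?_) (Subgroup.card_le_of_le (le_sup_left : _ ≤ E))
        rw [Nat.card_zpowers, orderOf_coe, hzo]
      · have : zpowers ((z : ↥P) : G) = E := Subgroup.eq_of_le_of_card_ge le_sup_left
          (by rw [Nat.card_zpowers, orderOf_coe, hzo, heq])
        obtain ⟨i, hi⟩ := this.ge (mem_sup_right (mem_zpowers (w : G)))
        exact ⟨i, Subtype.ext (by simpa using hi)⟩
    have hup : Nat.card ↥E ≤ p ^ 2 := by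
      have hf : Function.Surjective (fun q : ↥(zpowers ((z : ↥P) : G)) × ↥(zpowers (w : G)) =>
          (⟨q.1 * q.2, mul_mem (mem_sup_left q.1.2) (mem_sup_right q.2.2)⟩ : ↥E)) := by
        rintro ⟨a, ha⟩
        obtain ⟨i, j, rfl⟩ := hgens a ha
        exact ⟨(⟨_, i, rfl⟩, ⟨_, j, rfl⟩), rfl⟩
      refine (Nat.card_le_card_of_surjective _ hf).trans ?_
      rw [Nat.card_prod, Nat.card_zpowers, Nat.card_zpowers, orderOf_coe, hzo, sq]
      exact Nat.mul_le_mul_left _ (orderOf_le_of_pow_eq_one hp.out.pos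
        (hEpow _ (mem_sup_right (mem_zpowers _))))
    obtain ⟨e, he⟩ := (hP.to_le hEP).exists_card_eq
    rw [he] at hlow hup ⊢
    have h2 := (Nat.pow_le_pow_iff_right hp.out.one_lt).mp hup
    have h1 : 1 < e := (Nat.pow_lt_pow_iff_right hp.out.one_lt).mp (by rwa [pow_one])
    rw [show e = 2 by omega]
  obtain ⟨g, hg⟩ := hB E _ hEcomm (isMulCommutative_zpowers u) (by rw [hEcard, Nat.card_zpowers, hu])
  obtain ⟨a, ha, hau⟩ : u ∈ E.map (MulAut.conj g).toMonoidHom := hg ▸ mem_zpowers u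
  have hup : u ^ p = 1 := by rw [← hau, ← map_pow, hEpow a ha, map_one]
  have h := orderOf_dvd_of_pow_eq_one hup
  rw [hu, sq] at h
  have h2 := Nat.le_of_dvd hp.out.pos h
  have h3 := lt_mul_of_one_lt_left hp.out.pos hp.out.one_lt
  omega

/-- The quaternion Sylow subgroup condition relative to a normal subgroup. -/
def SmallQuaternion (M : Subgroup G) : Prop :=
  2 ∣ Nat.card ↥M → ∀ (P : Sylow 2 G) (m : ℕ),
    Nonempty (↥(P : Subgroup G) ≃* QuaternionGroup (2 ^ m)) → m ≤ 1

/-- A minimal supplement modulo `M` of a subgroup with abelian image. -/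
structure IsLift (M X : Subgroup G) : Prop where
  comm : ∀ a ∈ X, ∀ b ∈ X, a * b * a⁻¹ * b⁻¹ ∈ M
  le_frattini : ∀ a : ↥X, (a : G) ∈ M → a ∈ frattini ↥X

theorem IsLift.isNilpotent [Finite G] {M X : Subgroup G} (h : IsLift M X) :
    Group.IsNilpotent ↥X := by
  refine Solvable.isNilpotent_of_frattini_quotient ?_
  letI : CommGroup (↥X ⧸ frattini ↥X) :=
    { (inferInstance : Group (↥X ⧸ frattini ↥X)) with
      mul_comm := fun a b => by
        obtain ⟨a, rfl⟩ := QuotientGroup.mk'_surjective _ a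
        obtain ⟨b, rfl⟩ := QuotientGroup.mk'_surjective _ b
        have h1 : (QuotientGroup.mk' (frattini ↥X)) (a * b * a⁻¹ * b⁻¹) = 1 :=
          (QuotientGroup.eq_one_iff _).mpr (h.le_frattini _ (h.comm a a.2 b b.2))
        rw [map_mul, map_mul, map_mul, map_inv, map_inv, mul_inv_eq_one,
          mul_inv_eq_iff_eq_mul] at h1
        exact h1 }
  exact CommGroup.isNilpotent

theorem exists_lift [Finite G] (M : Subgroup G) [hM : M.Normal] (A : Subgroup (G ⧸ M))
    (hA : IsMulCommutative ↥A) :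
    ∃ X : Subgroup G, IsLift M X ∧ X.map (QuotientGroup.mk' M) = A := by
  classical
  obtain ⟨X, hXA, hmin⟩ := wellFounded_lt.has_min
    {X : Subgroup G | X.map (QuotientGroup.mk' M) = A}
    ⟨A.comap (QuotientGroup.mk' M), map_comap_eq_self_of_surjective (QuotientGroup.mk'_surjective M) A⟩
  simp only [Set.mem_ofPred_eq] at hXA hmin
  refine ⟨X, ⟨fun a ha b hb => ?_, fun a haM => ?_⟩, hXA⟩
  · rw [← QuotientGroup.eq_one_iff]
    change QuotientGroup.mk' M (a * b * a⁻¹ * b⁻¹) = 1
    have hc := congrArg Subtype.val (hA.is_comm.comm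
      ⟨_, hXA ▸ mem_map_of_mem _ ha⟩ ⟨_, hXA ▸ mem_map_of_mem _ hb⟩)
    simp only [coe_mul] at hc
    rw [map_mul, map_mul, map_mul, map_inv, map_inv, hc]
    group
  · rw [Solvable.mem_frattini_iff]
    intro W hW
    by_contra haW
    haveI : (M.subgroupOf X).Normal := inferInstance
    have hsup : W ⊔ M.subgroupOf X = ⊤ :=
      hW.2 _ (lt_of_le_of_ne le_sup_left fun h => haW (h ▸ mem_sup_right haM))
    refine hmin (W.map X.subtype) ?_ (lt_of_le_of_ne (map_subtype_le W) fun h => hW.1 ?_)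
    · rw [← hXA]
      refine le_antisymm (map_mono (map_subtype_le W)) ?_
      rintro _ ⟨x, hx, rfl⟩
      have hm : (⟨x, hx⟩ : ↥X) ∈ (↑(W ⊔ M.subgroupOf X) : Set ↥X) := by rw [hsup]; trivial
      rw [mul_normal] at hm
      obtain ⟨w, hw, v, hv, hwv⟩ := hm
      refine ⟨w, mem_map_of_mem _ hw, ?_⟩
      rw [show x = (w : G) * v from (congrArg Subtype.val hwv).symm, map_mul,
        show QuotientGroup.mk' M (v : G) = 1 from (QuotientGroup.eq_one_iff _).mpr hv, mul_one]
    · apply map_injective X.subtype_injective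
      rw [h, ← MonoidHom.range_eq_map, range_subtype]

/-- The `p`-part of a nilpotent subgroup. -/
theorem exists_part [Finite G] {X : Subgroup G} (hX : Group.IsNilpotent ↥X) (p : ℕ) [Fact p.Prime] :
    ∃ (T H : Subgroup G), T ≤ X ∧ H ≤ X ∧ IsPGroup p ↥T ∧ (Nat.card ↥H).Coprime p ∧
      (∀ x ∈ X, (∃ i, orderOf x = p ^ i) → x ∈ T) ∧ (∀ t ∈ T, ∀ h ∈ H, Commute t h) ∧
      (∀ x ∈ X, ∃ t ∈ T, ∃ h ∈ H, x = t * h) ∧ Nat.card ↥T * Nat.card ↥H = Nat.card ↥X := by
  obtain ⟨S⟩ : Nonempty (Sylow p ↥X) := inferInstance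
  have hn : (S : Subgroup ↥X).Normal := inferInstance
  obtain ⟨H, hH⟩ := exists_right_complement'_of_coprime
    (N := (S : Subgroup ↥X)) S.card_coprime_index
  have hcard := hH.card_mul_card
  have hHco : (Nat.card ↥H).Coprime p := by
    rw [← hH.symm.index_eq_card]
    exact ((Fact.out : p.Prime).coprime_iff_not_dvd.mpr S.not_dvd_index).symm
  refine ⟨(S : Subgroup ↥X).map X.subtype, H.map X.subtype, map_subtype_le _, map_subtype_le _,
    S.isPGroup'.map _, ?_, ?_, ?_, ?_, ?_⟩
  · rwa [Subgroup.card_map_of_injective X.subtype_injective]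
  · rintro x hx ⟨i, hi⟩
    have hPa : IsPGroup p ↥(zpowers (⟨x, hx⟩ : X)) := by
      apply IsPGroup.of_card (n := i); rw [Nat.card_zpowers, Subgroup.orderOf_mk, hi]
    obtain ⟨T, hT⟩ := hPa.exists_le_sylow
    have := Sylow.unique_of_normal S hn
    have hTS : T = S := Subsingleton.elim _ _
    exact ⟨⟨x, hx⟩, hTS ▸ hT (mem_zpowers _), rfl⟩
  · rintro _ ⟨t, ht, rfl⟩ _ ⟨h, hh, rfl⟩
    refine congrArg Subtype.val (NilpotentCover.commute_of_coprime t h ?_).eq
    obtain ⟨i, hi⟩ := NilpotentCover.exists_orderOf_of_mem S ht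
    rw [hi]
    exact Nat.Coprime.pow_left i ((Nat.Coprime.coprime_dvd_left (H.orderOf_dvd_natCard hh) hHco).symm)
  · intro x hx
    obtain ⟨⟨t, h⟩, hth, -⟩ := isComplement_iff_existsUnique.mp hH ⟨x, hx⟩
    exact ⟨_, ⟨t, t.2, rfl⟩, _, ⟨h, h.2, rfl⟩, (congrArg Subtype.val hth).symm⟩
  · rwa [Subgroup.card_map_of_injective X.subtype_injective,
      Subgroup.card_map_of_injective X.subtype_injective]

/-- What a lift looks like at a prime dividing both `|M|` and the order of its image. -/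
theorem IsLift.part_facts [Finite G] (hB : Hyp G) {M X : Subgroup G} [hM : M.Normal]
    (hQ : SmallQuaternion M) {p : ℕ} [hp : Fact p.Prime] (hpM : p ∣ Nat.card ↥M) {T : Subgroup G}
    (hT : IsPGroup p ↥T) (hTX : T ≤ X) {u : G} (huT : u ∈ T) (hu : u ∉ M) (P : Sylow p G)
    (hTP : T ≤ (P : Subgroup G)) :
    (P : Subgroup G) ⊓ M ≤ T ∧ (IsMulCommutative ↥T ∨ (p = 2 ∧ Nat.card ↥T = 8 ∧
      T = (P : Subgroup G))) := by
  have _ := hTX
  obtain ⟨x₀, hx₀⟩ := exists_prime_orderOf_dvd_card' (G := ↥M) p hpM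
  rw [← Subgroup.orderOf_coe] at hx₀
  have hall : ∀ w : G, orderOf w = p → w ∈ M := fun w hw =>
    mem_of_orderOf_eq hB (hw.trans hx₀.symm) x₀.2
  obtain ⟨i, hi'⟩ := IsPGroup.iff_orderOf.mp hT ⟨u, huT⟩
  have hi : orderOf u = p ^ i := by rwa [Subgroup.orderOf_mk] at hi'
  have hi2 : 2 ≤ i := by
    by_contra h
    interval_cases i
    · exact hu (by rw [(orderOf_eq_one_iff (x := u)).mp (by rw [hi, pow_zero])]; exact one_mem M)
    · exact hu (hall u (by rw [hi, pow_one]))
  have hu2 : orderOf (u ^ p ^ (i - 2)) = p ^ 2 := by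
    rw [orderOf_pow_of_dvd (pow_ne_zero _ hp.out.ne_zero) (hi ▸ pow_dvd_pow p (Nat.sub_le i 2)), hi,
      Nat.pow_div (Nat.sub_le i 2) hp.out.pos, show i - (i - 2) = 2 by omega]
  have huniq := hasUniqueOrderP hB P.isPGroup' hu2
  -- powers of `u` of a given order
  have hpowu : ∀ j ≤ i, orderOf (u ^ p ^ (i - j)) = p ^ j := fun j hj => by
    rw [orderOf_pow_of_dvd (pow_ne_zero _ hp.out.ne_zero) (hi ▸ pow_dvd_pow p (Nat.sub_le i j)), hi,
      Nat.pow_div (Nat.sub_le i j) hp.out.pos, show i - (i - j) = j by omega]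
  have hsmall : ∀ s ∈ (P : Subgroup G) ⊓ M, ∃ j < i, orderOf s = p ^ j := by
    intro s hs
    obtain ⟨j, hj⟩ := NilpotentCover.exists_orderOf_of_mem P hs.1
    refine ⟨j, ?_, hj⟩
    by_contra hji
    refine hu (mem_of_orderOf_eq hB (y := s ^ p ^ (j - i)) ?_ (pow_mem hs.2 _))
    rw [hi, orderOf_pow_of_dvd (pow_ne_zero _ hp.out.ne_zero)
      (hj ▸ pow_dvd_pow p (Nat.sub_le j i)), hj, Nat.pow_div (Nat.sub_le j i) hp.out.pos,
      show j - (j - i) = i by omega]
  rcases TwoGroupsQ.isCyclic_or_quaternion P.isPGroup' huniq with hcyc | ⟨rfl, m, -, ⟨e⟩⟩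
  · refine ⟨fun s hs => ?_, Or.inl ?_⟩
    · obtain ⟨j, hj, hjs⟩ := hsmall s hs
      refine zpowers_le.mpr (pow_mem huT (p ^ (i - j))) ?_
      haveI := Fintype.ofFinite ↥(P : Subgroup G)
      classical
      have hw : u ^ p ^ (i - j) ∈ (P : Subgroup G) := pow_mem (hTP huT) _
      obtain ⟨g, hg⟩ := hcyc.exists_generator
      set w : ↥(P : Subgroup G) := ⟨u ^ p ^ (i - j), hw⟩ with hwd
      have hwo : orderOf w = p ^ j := by rw [hwd, Subgroup.orderOf_mk, hpowu j hj.le]
      set F := (Finset.univ : Finset ↥(P : Subgroup G)).filter (fun a => a ^ p ^ j = 1) with hF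
      have h1 : F.card ≤ p ^ j := IsCyclic.card_pow_eq_one_le (pow_pos hp.out.pos j)
      have himg : (Finset.range (p ^ j)).image (fun l => w ^ l) = F := by
        refine Finset.eq_of_subset_of_card_le (fun a ha => ?_) ?_
        · obtain ⟨l, -, rfl⟩ := Finset.mem_image.mp ha
          refine Finset.mem_filter.mpr ⟨Finset.mem_univ _, ?_⟩
          rw [← pow_mul, mul_comm, pow_mul, ← hwo, pow_orderOf_eq_one, one_pow]
        · rw [Finset.card_image_of_injOn, Finset.card_range]
          · exact h1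
          · intro a ha b hb hab
            rw [Finset.coe_range, Set.mem_Iio, ← hwo] at ha hb
            exact pow_injOn_Iio_orderOf ha hb hab
      have hsF : (⟨s, hs.1⟩ : ↥(P : Subgroup G)) ∈ F := by
        refine Finset.mem_filter.mpr ⟨Finset.mem_univ _, Subtype.ext ?_⟩
        simp only [SubgroupClass.coe_pow, OneMemClass.coe_one]
        rw [← hjs, pow_orderOf_eq_one]
      rw [← himg] at hsF
      obtain ⟨l, -, hl⟩ := Finset.mem_image.mp hsF
      exact ⟨l, by simpa using congrArg Subtype.val hl⟩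
    · haveI := isCyclic_of_le hTP
      letI := IsCyclic.commGroup (α := ↥T)
      exact ⟨⟨mul_comm⟩⟩
  · have hm1 : m ≤ 1 := hQ hpM P m ⟨e⟩
    have hcard8 : Nat.card ↥(P : Subgroup G) ∣ 8 := by
      haveI : NeZero (2 ^ m) := ⟨by positivity⟩
      rw [Nat.card_congr e.toEquiv, Nat.card_eq_fintype_card, QuaternionGroup.card]
      interval_cases m <;> norm_num
    refine ⟨fun s hs => ?_, ?_⟩
    · -- elements of order at most two
      have hi3 : i = 2 := by
        by_contra hne
        have h8 : 2 ^ i ∣ 2 ^ 3 := by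
          rw [← hi, ← Subgroup.orderOf_mk u (hTP huT)]
          exact (_root_.orderOf_dvd_natCard _).trans hcard8
        have hi3 : i ≤ 3 := (Nat.pow_dvd_pow_iff_le_right (by norm_num)).mp h8
        obtain rfl : i = 3 := by omega
        haveI : NeZero (2 ^ m) := ⟨by positivity⟩
        have hcyc : IsCyclic ↥(P : Subgroup G) := by
          refine isCyclic_of_orderOf_eq_card ⟨u, hTP huT⟩ ?_
          rw [Subgroup.orderOf_mk, hi]
          refine le_antisymm ?_ (Nat.le_of_dvd (by norm_num) hcard8)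
          rw [← hi, ← Subgroup.orderOf_mk u (hTP huT)]
          exact Nat.le_of_dvd Nat.card_pos (orderOf_dvd_natCard _)
        letI := IsCyclic.commGroup (α := ↥(P : Subgroup G))
        have h2 : e.symm (QuaternionGroup.a 1) * e.symm (QuaternionGroup.xa 0) =
            e.symm (QuaternionGroup.xa 0) * e.symm (QuaternionGroup.a 1) := mul_comm _ _
        rw [← map_mul, ← map_mul] at h2
        have h3 := e.symm.injective h2
        rw [QuaternionGroup.a_mul_xa, QuaternionGroup.xa_mul_a, QuaternionGroup.xa.injEq] at h3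
        have h4 : ((2 : ℕ) : ZMod (2 * 2 ^ m)) = 0 := by push_cast; linear_combination -h3
        rw [ZMod.natCast_eq_zero_iff] at h4
        have h5 : Nat.card ↥(P : Subgroup G) = 4 * 2 ^ m := by
          rw [Nat.card_congr e.toEquiv, Nat.card_eq_fintype_card, QuaternionGroup.card]
        have h6 : orderOf u ∣ 4 := by
          have h7 := Nat.le_of_dvd two_pos h4
          have : 2 ^ m = 1 := by have := Nat.one_le_two_pow (n := m); omega
          rw [← Subgroup.orderOf_mk u (hTP huT)]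
          exact (_root_.orderOf_dvd_natCard _).trans (by rw [h5, this])
        rw [hi] at h6
        norm_num at h6
      subst hi3
      obtain ⟨j, hj, hjs⟩ := hsmall s hs
      interval_cases j
      · rw [(orderOf_eq_one_iff (x := s)).mp (by rw [hjs, pow_zero])]; exact one_mem T
      · have hs2 : (⟨s, hs.1⟩ : ↥(P : Subgroup G)) ^ 2 = 1 := Subtype.ext (by
          simp only [SubgroupClass.coe_pow, OneMemClass.coe_one]
          rw [← pow_one 2, ← hjs, pow_orderOf_eq_one])
        have hw2 : (⟨u ^ 2, pow_mem (hTP huT) 2⟩ : ↥(P : Subgroup G)) ^ 2 = 1 := Subtype.ext (by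
          simp only [SubgroupClass.coe_pow, OneMemClass.coe_one]
          rw [← pow_mul, show 2 * 2 = 2 ^ 2 from rfl, ← hi, pow_orderOf_eq_one])
        have hw1 : (⟨u ^ 2, pow_mem (hTP huT) 2⟩ : ↥(P : Subgroup G)) ≠ 1 := fun h => by
          have h' := orderOf_dvd_of_pow_eq_one (show u ^ 2 = 1 from congrArg Subtype.val h)
          rw [hi] at h'
          norm_num at h'
        obtain ⟨l, hl⟩ := huniq _ _ hs2 hw2 hw1
        have : s = (u ^ 2) ^ l := by simpa using (congrArg Subtype.val hl).symm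
        rw [this]
        exact zpow_mem (pow_mem huT 2) l
    · obtain ⟨k, hk⟩ := hT.exists_card_eq
      have hk3 : k ≤ 3 := by
        refine (Nat.pow_dvd_pow_iff_le_right (by norm_num : 1 < 2)).mp ?_
        rw [← hk]
        exact (Subgroup.card_dvd_of_le hTP).trans hcard8
      by_cases hk3' : k = 3
      · subst hk3'
        refine Or.inr ⟨rfl, hk, Subgroup.eq_of_le_of_card_ge hTP ?_⟩
        rw [hk]
        exact Nat.le_of_dvd (by norm_num) hcard8
      · left
        interval_cases k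
        · haveI : Subsingleton ↥T := (Nat.card_eq_one_iff_unique.1 (by rw [hk]; rfl)).1
          exact ⟨⟨fun a b => Subsingleton.elim _ _⟩⟩
        · haveI := isCyclic_of_prime_card (p := 2) (α := ↥T) (by rw [hk]; rfl)
          letI := IsCyclic.commGroup (α := ↥T)
          exact ⟨⟨mul_comm⟩⟩
        · exact IsPGroup.isMulCommutative_of_card_eq_prime_sq (p := 2) hk
        · exact absurd rfl hk3'

end CfsgLib.AbelianConj
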