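import Cfsg.Agent.AbelianConj.Quotient
import Cfsg.Agent.Solvable.Basic

/-!
In a solvable group whose cyclic subgroups of order four are conjugate and whose 2-subgroups have
at most one involution, quaternion 2-subgroups have order at most eight.
-/

set_option autoImplicit false
set_option linter.style.haveILetI false

namespace CfsgLib.AbelianConj

open Subgroup

universe u

/-- A 2-subgroup of a quotient by an odd normal subgroup lifts isomorphically. -/
theorem exists_two_lift {G : Type u} [Group G] [Finite G] {N : Subgroup G} [hN : N.Normal]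
    (hNodd : ¬ 2 ∣ Nat.card ↥N) {T : Subgroup (G ⧸ N)} (hT : IsPGroup 2 ↥T) :
    ∃ S : Subgroup G, IsPGroup 2 ↥S ∧ (∀ q ∈ T, ∃ s ∈ S, QuotientGroup.mk' N s = q) ∧
      ∀ s ∈ S, QuotientGroup.mk' N s = 1 → s = 1 := by
  set π := QuotientGroup.mk' N
  set P := T.comap π
  have hNP : N ≤ P := fun n hn => by
    rw [mem_comap, show π n = 1 from (QuotientGroup.eq_one_iff n).mpr hn]; exact one_mem T
  obtain ⟨k, hk⟩ := hT.exists_card_eq
  have hidx : (N.subgroupOf P).index = 2 ^ k := by
    rw [← hk]
    have h := Subgroup.relIndex_ker π (K := P)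
    rw [QuotientGroup.ker_mk', map_comap_eq_self_of_surjective (QuotientGroup.mk'_surjective N)] at h
    exact h
  haveI : (N.subgroupOf P).Normal := inferInstance
  have hco : (Nat.card ↥(N.subgroupOf P)).Coprime (N.subgroupOf P).index := by
    rw [Nat.card_congr (subgroupOfEquivOfLe hNP).toEquiv, hidx]
    exact ((Nat.prime_two.coprime_iff_not_dvd.mpr hNodd).pow_left k).symm
  obtain ⟨C, hC⟩ := exists_right_complement'_of_coprime hco
  refine ⟨C.map P.subtype, IsPGroup.of_card (n := k) ?_, fun q hq => ?_, ?_⟩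
  · rw [Subgroup.card_map_of_injective P.subtype_injective, ← hC.symm.index_eq_card, hidx]
  · obtain ⟨g, rfl⟩ := QuotientGroup.mk'_surjective N q
    obtain ⟨⟨n, c⟩, hnc, -⟩ := isComplement_iff_existsUnique.mp hC ⟨g, hq⟩
    refine ⟨c, mem_map_of_mem _ c.2, ?_⟩
    rw [show g = (((n : ↥P)) : G) * ((c : ↥P) : G) from (congrArg Subtype.val hnc).symm, map_mul,
      show π ((n : ↥P) : G) = 1 from (QuotientGroup.eq_one_iff _).mpr n.2, one_mul]
  · rintro _ ⟨c, hc, rfl⟩ h
    have h1 : c ∈ N.subgroupOf P ⊓ C := ⟨(QuotientGroup.eq_one_iff (P.subtype c)).mp h, hc⟩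
    rw [hC.disjoint.eq_bot, mem_bot] at h1
    simp [h1]

theorem orderOf_eq_of_injOn {G H : Type u} [Group G] [Group H] {f : G →* H} {S : Subgroup G}
    (h : ∀ s ∈ S, f s = 1 → s = 1) {s : G} (hs : s ∈ S) : orderOf (f s) = orderOf s := by
  refine Nat.dvd_antisymm (orderOf_map_dvd f s) (orderOf_dvd_of_pow_eq_one (h _ (pow_mem hs _) ?_))
  rw [map_pow, pow_orderOf_eq_one]

/-- In a solvable group whose involutions are all conjugate, involutions of a 2-subgroup commute. -/
theorem involutions_commute {G : Type u} [Group G] [Finite G] [Group.IsSolvable G]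
    (hconj : ∀ x y : G, orderOf x = 2 → orderOf y = 2 → ∃ g : G, g * x * g⁻¹ = y)
    {T : Subgroup G} (hT : IsPGroup 2 ↥T) {x y : G} (hx : x ∈ T) (hy : y ∈ T)
    (hx2 : orderOf x = 2) (hy2 : orderOf y = 2) : Commute x y := by
  suffices ∀ n, ∀ (G : Type u) [Group G] [Finite G] [Group.IsSolvable G], Nat.card G = n →
      (∀ x y : G, orderOf x = 2 → orderOf y = 2 → ∃ g : G, g * x * g⁻¹ = y) →
      ∀ T : Subgroup G, IsPGroup 2 ↥T → ∀ x y : G, x ∈ T → y ∈ T → orderOf x = 2 → orderOf y = 2 →
        Commute x y from this _ G rfl hconj T hT x y hx hy hx2 hy2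
  intro n
  induction n using Nat.strong_induction_on with
  | _ n ih =>
    intro G _ _ _ hn hconj T hT x y hx hy hx2 hy2
    haveI : Nontrivial G := ⟨⟨x, 1, fun h => by rw [h, orderOf_one] at hx2; omega⟩⟩
    obtain ⟨N, hN, hne, hmin⟩ := Solvable.exists_minimal_normal (G := G)
    haveI := hN
    obtain ⟨p, hp, hP⟩ := Solvable.exists_isPGroup_of_minimal_normal hne hmin
    haveI := Fact.mk hp
    obtain ⟨k, hk⟩ := hP.exists_card_eq
    have hk0 : k ≠ 0 := fun h0 => hne (Subgroup.eq_bot_of_card_eq _ (by rw [hk, h0, pow_zero]))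
    rcases eq_or_ne p 2 with rfl | hp2
    · let E : Subgroup G :=
        { carrier := {a | a ∈ N ∧ a ^ 2 = 1 ∧ ∀ m ∈ N, Commute a m}
          one_mem' := ⟨one_mem _, one_pow _, fun m _ => Commute.one_left m⟩
          mul_mem' := fun {a b} ha hb => ⟨mul_mem ha.1 hb.1,
            by rw [(ha.2.2 b hb.1).mul_pow, ha.2.1, hb.2.1, one_mul],
            fun m hm => (ha.2.2 m hm).mul_left (hb.2.2 m hm)⟩
          inv_mem' := fun {a} ha => ⟨inv_mem ha.1, by rw [inv_pow, ha.2.1, inv_one],
            fun m hm => (ha.2.2 m hm).inv_left⟩ }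
      haveI : Nontrivial ↥N := Finite.one_lt_card_iff_nontrivial.mp (by
        rw [hk]; exact Nat.one_lt_pow hk0 hp.one_lt)
      haveI := hP.center_nontrivial
      obtain ⟨z, hz⟩ := exists_prime_orderOf_dvd_card' (G := ↥(center ↥N)) 2 (by
        obtain ⟨e, he⟩ := (hP.to_subgroup (center ↥N)).exists_card_eq
        rw [he]
        exact dvd_pow_self 2 fun h0 => by
          have h1 := Finite.one_lt_card (α := ↥(center ↥N))
          rw [he, h0] at h1
          exact lt_irrefl _ h1)
      have hz2 : orderOf ((z : ↥N) : G) = 2 := by rw [orderOf_coe, orderOf_coe, hz]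
      have hzE : ((z : ↥N) : G) ∈ E := ⟨(z : ↥N).2,
        orderOf_dvd_iff_pow_eq_one.mp hz2.dvd,
        fun m hm => congrArg Subtype.val ((mem_center_iff.mp z.2 ⟨m, hm⟩).symm)⟩
      have hE : ∀ w : G, orderOf w = 2 → w ∈ E := by
        intro w hw
        obtain ⟨g, rfl⟩ := hconj _ w hz2 hw
        refine ⟨hN.conj_mem _ hzE.1 g, by rw [conj_pow, hzE.2.1, mul_one, mul_inv_cancel],
          fun m hm => ?_⟩
        have := hzE.2.2 (g⁻¹ * m * g) (by simpa using hN.conj_mem m hm g⁻¹)
        have h2 := congrArg (fun q => g * q * g⁻¹) this.eq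
        simpa [Commute, SemiconjBy, mul_assoc] using h2
      exact (hE x hx2).2.2 y (hE y hy2).1
    · set π := QuotientGroup.mk' N
      have hodd : ¬ 2 ∣ Nat.card ↥N := by
        rw [hk]
        exact fun h => hp2 ((Nat.prime_dvd_prime_iff_eq Nat.prime_two hp).mp
          (Nat.prime_two.dvd_of_dvd_pow h)).symm
      have hlt : Nat.card (G ⧸ N) < n := by
        rw [← hn, N.card_eq_card_quotient_mul_card_subgroup]
        exact lt_mul_of_one_lt_right Nat.card_pos (by rw [hk]; exact Nat.one_lt_pow hk0 hp.one_lt)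
      have hinjT : ∀ s ∈ T, π s = 1 → s = 1 := by
        intro s hs h
        obtain ⟨i, hi⟩ := IsPGroup.iff_orderOf.mp hT ⟨s, hs⟩
        rw [Subgroup.orderOf_mk] at hi
        have h1 := N.orderOf_dvd_natCard ((QuotientGroup.eq_one_iff s).mp h)
        rw [← orderOf_eq_one_iff, hi]
        exact Nat.eq_one_of_dvd_coprimes
          ((Nat.prime_two.coprime_iff_not_dvd.mpr hodd).pow_left i).symm (hi ▸ h1) dvd_rfl
      have hc := ih _ hlt (G ⧸ N) rfl (fun a b ha hb => by
        have hlift : ∀ a : G ⧸ N, orderOf a = 2 → ∃ u, π u = a ∧ orderOf u = 2 := by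
          intro a ha
          obtain ⟨S, -, hSmap, hSinj⟩ := exists_two_lift hodd (T := zpowers a)
            (IsPGroup.of_card (n := 1) (by rw [Nat.card_zpowers, ha, pow_one]))
          obtain ⟨u, hu, rfl⟩ := hSmap a (mem_zpowers a)
          exact ⟨u, rfl, by rw [← orderOf_eq_of_injOn hSinj hu, ha]⟩
        obtain ⟨u, rfl, hu⟩ := hlift a ha
        obtain ⟨v, rfl, hv⟩ := hlift b hb
        obtain ⟨g, hg⟩ := hconj u v hu hv
        exact ⟨π g, by rw [← map_inv, ← map_mul, ← map_mul, hg]⟩)
        (T.map π) (hT.map π) (π x) (π y) (mem_map_of_mem _ hx) (mem_map_of_mem _ hy)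
        (by rw [orderOf_eq_of_injOn hinjT hx, hx2]) (by rw [orderOf_eq_of_injOn hinjT hy, hy2])
      have hxy : π (x * y * x⁻¹ * y⁻¹) = 1 := by
        rw [map_mul, map_mul, map_mul, map_inv, map_inv, hc.eq]; group
      have := hinjT _ (mul_mem (mul_mem (mul_mem hx hy) (inv_mem hx)) (inv_mem hy)) hxy
      rw [mul_inv_eq_one, mul_inv_eq_iff_eq_mul] at this
      exact this

/-- Elements of order four of a 2-subgroup normalize each other's cyclic subgroups. -/
theorem order_four_normalize {G : Type u} [Group G] [Finite G] [Group.IsSolvable G]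
    (hconj : ∀ x y : G, orderOf x = 4 → orderOf y = 4 → ∃ g : G, g * x * g⁻¹ ∈ zpowers y)
    (huniq : ∀ x y : G, orderOf x = 2 → orderOf y = 2 → Commute x y → x = y)
    {T : Subgroup G} (hT : IsPGroup 2 ↥T) {x y : G} (hx : x ∈ T) (hy : y ∈ T)
    (hx4 : orderOf x = 4) (hy4 : orderOf y = 4) : x * y * x⁻¹ ∈ zpowers y := by
  suffices ∀ n, ∀ (G : Type u) [Group G] [Finite G] [Group.IsSolvable G], Nat.card G = n →
      (∀ x y : G, orderOf x = 4 → orderOf y = 4 → ∃ g : G, g * x * g⁻¹ ∈ zpowers y) →
      (∀ x y : G, orderOf x = 2 → orderOf y = 2 → Commute x y → x = y) →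
      ∀ T : Subgroup G, IsPGroup 2 ↥T → ∀ x y : G, x ∈ T → y ∈ T → orderOf x = 4 → orderOf y = 4 →
        x * y * x⁻¹ ∈ zpowers y from this _ G rfl hconj huniq T hT x y hx hy hx4 hy4
  intro n
  induction n using Nat.strong_induction_on with
  | _ n ih =>
    intro G _ _ _ hn hconj huniq T hT x y hx hy hx4 hy4
    haveI : Nontrivial G := ⟨⟨x, 1, fun h => by rw [h, orderOf_one] at hx4; omega⟩⟩
    obtain ⟨N, hN, hne, hmin⟩ := Solvable.exists_minimal_normal (G := G)
    haveI := hN
    obtain ⟨p, hp, hP⟩ := Solvable.exists_isPGroup_of_minimal_normal hne hmin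
    haveI := Fact.mk hp
    obtain ⟨k, hk⟩ := hP.exists_card_eq
    have hk0 : k ≠ 0 := fun h0 => hne (Subgroup.eq_bot_of_card_eq _ (by rw [hk, h0, pow_zero]))
    rcases eq_or_ne p 2 with rfl | hp2
    · -- a unique involution
      obtain ⟨S, hS⟩ := hT.exists_le_sylow
      have hNS : ∀ S : Sylow 2 G, N ≤ (S : Subgroup G) := fun S => by
        obtain ⟨S', hS'⟩ := hP.exists_le_sylow
        obtain ⟨g, rfl⟩ := MulAction.exists_smul_eq G S' S
        intro m hm
        exact ⟨g⁻¹ * m * g, hS' (by simpa using hN.conj_mem m hm g⁻¹), by simp [mul_assoc]⟩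
      haveI : Nontrivial ↥N := Finite.one_lt_card_iff_nontrivial.mp (by
        rw [hk]; exact Nat.one_lt_pow hk0 hp.one_lt)
      obtain ⟨z, hz⟩ := exists_prime_orderOf_dvd_card' (G := ↥N) 2 (hk ▸ dvd_pow_self 2 hk0)
      rw [← Subgroup.orderOf_coe] at hz
      have hall : ∀ w : G, orderOf w = 2 → w = z := by
        intro w hw
        obtain ⟨S', hS'⟩ := (IsPGroup.of_card (G := ↥(zpowers w)) (p := 2) (n := 1)
          (by rw [Nat.card_zpowers, hw, pow_one])).exists_le_sylow
        haveI : Nontrivial ↥(S' : Subgroup G) :=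
          ⟨⟨⟨w, hS' (mem_zpowers w)⟩, 1, fun h => by
            have hw1 : w = 1 := congrArg Subtype.val h
            rw [hw1, orderOf_one] at hw; omega⟩⟩
        haveI := S'.isPGroup'.center_nontrivial
        obtain ⟨c, hc⟩ := exists_prime_orderOf_dvd_card' (G := ↥(center ↥(S' : Subgroup G))) 2 (by
          obtain ⟨e, he⟩ := (S'.isPGroup'.to_subgroup (center ↥(S' : Subgroup G))).exists_card_eq
          rw [he]
          exact dvd_pow_self 2 fun h0 => by
            have h1 := Finite.one_lt_card (α := ↥(center ↥(S' : Subgroup G)))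
            rw [he, h0] at h1
            exact lt_irrefl _ h1)
        have hc2 : orderOf (((c : ↥(S' : Subgroup G))) : G) = 2 := by
          rw [orderOf_coe, orderOf_coe, hc]
        have hcomm : ∀ t ∈ (S' : Subgroup G), Commute ((c : ↥(S' : Subgroup G)) : G) t :=
          fun t ht => congrArg Subtype.val ((mem_center_iff.mp c.2 ⟨t, ht⟩).symm)
        rw [← huniq _ w hc2 hw (hcomm w (hS' (mem_zpowers w))),
          huniq _ z hc2 hz (hcomm z (hNS S' z.2))]
      set Z := zpowers (z : G) with hZ
      have hzc : (z : G) ∈ center G := mem_center_iff.mpr fun g => by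
        have h := hall (g * z * g⁻¹) (by rw [← hz]; exact MulEquiv.orderOf_eq (MulAut.conj g) z)
        exact mul_inv_eq_iff_eq_mul.mp h
      haveI : Z.Normal := ⟨fun a ha g => by
        rw [mem_center_iff.mp (zpowers_le.mpr hzc ha) g, mul_inv_cancel_right]; exact ha⟩
      set π := QuotientGroup.mk' Z
      have hord : ∀ u : G, orderOf u = 4 → orderOf (π u) = 2 := by
        intro u hu
        refine orderOf_eq_prime ?_ ?_
        · rw [← map_pow]
          refine (QuotientGroup.eq_one_iff _).mpr ?_
          rw [hall (u ^ 2) (by rw [orderOf_pow, hu]; rfl)]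
          exact mem_zpowers _
        · intro h
          have h1 := orderOf_le_of_pow_eq_one (x := u) (n := 2) two_pos (by
            obtain ⟨i, hi⟩ := (QuotientGroup.eq_one_iff u).mp h
            simp only at hi
            rw [← hi, ← zpow_natCast, ← zpow_mul, mul_comm, zpow_mul, zpow_natCast, ← hz,
              pow_orderOf_eq_one, one_zpow])
          omega
      have hc := involutions_commute (G := G ⧸ Z) (fun a b ha hb => by
        have hlift : ∀ a : G ⧸ Z, orderOf a = 2 → ∃ u, π u = a ∧ orderOf u = 4 := by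
          intro a ha
          obtain ⟨u, rfl⟩ := QuotientGroup.mk'_surjective Z a
          have hu2 : u ^ 2 ∈ Z := by
            rw [← QuotientGroup.eq_one_iff]
            change π (u ^ 2) = 1
            rw [map_pow, ← ha, pow_orderOf_eq_one]
          have huZ : u ∉ Z := fun h => by
            rw [show π u = 1 from (QuotientGroup.eq_one_iff u).mpr h, orderOf_one] at ha
            omega
          refine ⟨u, rfl, ?_⟩
          refine orderOf_eq_prime_pow (p := 2) (n := 1) ?_ ?_
          · rw [pow_one]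
            intro h2
            rcases (Nat.dvd_prime Nat.prime_two).mp (orderOf_dvd_of_pow_eq_one h2) with h | h
            · exact huZ (by rw [orderOf_eq_one_iff.mp h]; exact one_mem Z)
            · exact huZ (by rw [hall u h]; exact mem_zpowers _)
          · show u ^ 2 ^ 2 = 1
            obtain ⟨i, hi⟩ := hu2
            simp only at hi
            rw [show (2 : ℕ) ^ 2 = 2 * 2 from rfl, pow_mul, ← hi, ← zpow_natCast, ← zpow_mul,
              mul_comm, zpow_mul, zpow_natCast, ← hz, pow_orderOf_eq_one, one_zpow]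
        obtain ⟨u, rfl, hu⟩ := hlift a ha
        obtain ⟨v, rfl, hv⟩ := hlift b hb
        obtain ⟨g, hg⟩ := hconj u v hu hv
        refine ⟨π g, ?_⟩
        rw [← map_inv, ← map_mul, ← map_mul]
        obtain ⟨i, hi⟩ := hg
        simp only at hi
        rw [← hi, map_zpow]
        have h1 : orderOf (π (v ^ i)) = 2 := by
          rw [hi, map_mul, map_mul, map_inv, ← ha]
          exact MulEquiv.orderOf_eq (MulAut.conj (π g)) (π u)
        rw [map_zpow] at h1
        rcases Int.even_or_odd i with ⟨j, rfl⟩ | ⟨j, rfl⟩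
        · rw [← two_mul, zpow_mul, zpow_two, ← sq, ← hb, pow_orderOf_eq_one, one_zpow, orderOf_one] at h1
          omega
        · rw [zpow_add, zpow_one, zpow_mul, zpow_two, ← sq, ← hb, pow_orderOf_eq_one, one_zpow,
            one_mul])
        (hT.map π) (mem_map_of_mem _ hx) (mem_map_of_mem _ hy) (hord x hx4) (hord y hy4)
      have hxy : x * y * x⁻¹ * y⁻¹ ∈ Z := by
        rw [← QuotientGroup.eq_one_iff]
        change π (x * y * x⁻¹ * y⁻¹) = 1
        rw [map_mul, map_mul, map_mul, map_inv, map_inv, hc.eq]; group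
      have hZy : Z ≤ zpowers y := by
        rw [hZ, zpowers_le, ← hall (y ^ 2) (by rw [orderOf_pow, hy4]; rfl)]
        exact pow_mem (mem_zpowers y) 2
      simpa using mul_mem (hZy hxy) (mem_zpowers y)
    · set π := QuotientGroup.mk' N
      have hodd : ¬ 2 ∣ Nat.card ↥N := by
        rw [hk]
        exact fun h => hp2 ((Nat.prime_dvd_prime_iff_eq Nat.prime_two hp).mp
          (Nat.prime_two.dvd_of_dvd_pow h)).symm
      have hlt : Nat.card (G ⧸ N) < n := by
        rw [← hn, N.card_eq_card_quotient_mul_card_subgroup]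
        exact lt_mul_of_one_lt_right Nat.card_pos (by rw [hk]; exact Nat.one_lt_pow hk0 hp.one_lt)
      have hinjT : ∀ s ∈ T, π s = 1 → s = 1 := by
        intro s hs h
        obtain ⟨i, hi⟩ := IsPGroup.iff_orderOf.mp hT ⟨s, hs⟩
        rw [Subgroup.orderOf_mk] at hi
        have h1 := N.orderOf_dvd_natCard ((QuotientGroup.eq_one_iff s).mp h)
        rw [← orderOf_eq_one_iff, hi]
        exact Nat.eq_one_of_dvd_coprimes
          ((Nat.prime_two.coprime_iff_not_dvd.mpr hodd).pow_left i).symm (hi ▸ h1) dvd_rfl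
      have hc := ih _ hlt (G ⧸ N) rfl (fun a b ha hb => by
        have hlift : ∀ a : G ⧸ N, orderOf a = 4 → ∃ u, π u = a ∧ orderOf u = 4 := by
          intro a ha
          obtain ⟨S, -, hSmap, hSinj⟩ := exists_two_lift hodd (T := zpowers a)
            (IsPGroup.of_card (n := 2) (by rw [Nat.card_zpowers, ha]; rfl))
          obtain ⟨u, hu, rfl⟩ := hSmap a (mem_zpowers a)
          exact ⟨u, rfl, by rw [← orderOf_eq_of_injOn hSinj hu, ha]⟩
        obtain ⟨u, rfl, hu⟩ := hlift a ha
        obtain ⟨v, rfl, hv⟩ := hlift b hb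
        obtain ⟨g, hg⟩ := hconj u v hu hv
        exact ⟨π g, by rw [← map_inv, ← map_mul, ← map_mul, ← MonoidHom.map_zpowers]; exact mem_map_of_mem _ hg⟩)
        (fun a b ha hb hab => by
          have hpow : ∀ w ∈ closure ({a, b} : Set (G ⧸ N)), w ^ 2 = 1 := by
            intro w hw
            have hle : closure ({a, b} : Set (G ⧸ N)) ≤ centralizer ({a} : Set (G ⧸ N)) ⊓
                centralizer ({b} : Set (G ⧸ N)) := by
              rw [closure_le]
              rintro c (rfl | rfl)
              · exact ⟨mem_centralizer_singleton_iff.mpr rfl, mem_centralizer_singleton_iff.mpr hab.eq⟩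
              · exact ⟨mem_centralizer_singleton_iff.mpr hab.eq.symm, mem_centralizer_singleton_iff.mpr rfl⟩
            induction hw using Subgroup.closure_induction with
            | mem c hc =>
              rcases hc with rfl | rfl
              · rw [← ha, pow_orderOf_eq_one]
              · rw [← hb, pow_orderOf_eq_one]
            | one => exact one_pow 2
            | mul c d hc hd h1 h2 =>
              have hcd : Commute c d := by
                have : closure ({a, b} : Set (G ⧸ N)) ≤ centralizer ({c} : Set (G ⧸ N)) := by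
                  rw [closure_le]
                  rintro e (rfl | rfl)
                  · exact mem_centralizer_singleton_iff.mpr
                      (mem_centralizer_singleton_iff.mp (hle hc).1).symm
                  · exact mem_centralizer_singleton_iff.mpr
                      (mem_centralizer_singleton_iff.mp (hle hc).2).symm
                exact (mem_centralizer_singleton_iff.mp (this hd)).symm
              rw [hcd.mul_pow, h1, h2, one_mul]
            | inv c _ h1 => rw [inv_pow, h1, inv_one]
          obtain ⟨S, -, hSmap, hSinj⟩ := exists_two_lift hodd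
            (T := closure ({a, b} : Set (G ⧸ N))) (fun w => ⟨1, Subtype.ext (by simpa using hpow w w.2)⟩)
          obtain ⟨u, hu, rfl⟩ := hSmap a (subset_closure (Set.mem_insert _ _))
          obtain ⟨v, hv, rfl⟩ := hSmap b (subset_closure (Set.mem_insert_of_mem _ rfl))
          have hcomm : Commute u v := by
            have hu' : QuotientGroup.mk' N (u * v * u⁻¹ * v⁻¹) = 1 := by
              rw [map_mul, map_mul, map_mul, map_inv, map_inv, hab.eq]; group
            have h := hSinj _ (mul_mem (mul_mem (mul_mem hu hv) (inv_mem hu)) (inv_mem hv)) hu'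
            rw [mul_inv_eq_one, mul_inv_eq_iff_eq_mul] at h
            exact h
          rw [huniq u v (by rw [← orderOf_eq_of_injOn hSinj hu, ha])
            (by rw [← orderOf_eq_of_injOn hSinj hv, hb]) hcomm])
        (T.map π) (hT.map π) (π x) (π y) (mem_map_of_mem _ hx) (mem_map_of_mem _ hy)
        (by rw [orderOf_eq_of_injOn hinjT hx, hx4]) (by rw [orderOf_eq_of_injOn hinjT hy, hy4])
      obtain ⟨i, hi⟩ := hc
      simp only at hi
      rw [← map_zpow, ← map_inv, ← map_mul, ← map_mul] at hi
      have h1 := hinjT ((y ^ i)⁻¹ * (x * y * x⁻¹))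
        (mul_mem (inv_mem (zpow_mem hy i)) (mul_mem (mul_mem hx hy) (inv_mem hx)))
        (by rw [map_mul, map_inv, hi, inv_mul_cancel])
      exact ⟨i, inv_mul_eq_one.mp h1⟩

/-- The quaternion bound in a solvable group with conjugate abelian subgroups. -/
theorem smallQuaternion_of_solvable {G : Type u} [Group G] [Finite G] [Group.IsSolvable G]
    (hB : Hyp G) (M : Subgroup G) : SmallQuaternion M := by
  intro _ P m ⟨e⟩
  by_contra hm
  push Not at hm
  haveI : NeZero (2 ^ m) := ⟨by positivity⟩
  have h4 : ∀ i : ZMod (2 * 2 ^ m), orderOf ((e.symm (QuaternionGroup.xa i) : ↥(P : Subgroup G)) : G) = 4 :=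
    fun i => by rw [Subgroup.orderOf_coe, MulEquiv.orderOf_eq, QuaternionGroup.orderOf_xa]
  have huniqP := hasUniqueOrderP hB P.isPGroup' (u := ((e.symm (QuaternionGroup.xa 0) :
    ↥(P : Subgroup G)) : G)) (by rw [h4]; rfl)
  have hmem := order_four_normalize (fun x y hx hy => exists_conj_mem hB (hx.trans hy.symm))
    (fun x y hx hy hxy => by
      -- commuting involutions lie in a conjugate of `P`
      have hpow : ∀ w ∈ closure ({x, y} : Set G), w ^ 2 = 1 := by
        intro w hw
        haveI hE : IsMulCommutative ↥(closure ({x, y} : Set G)) := isMulCommutative_closure (by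
          rintro a (rfl | rfl) b (rfl | rfl)
          · rfl
          · exact hxy.eq
          · exact hxy.eq.symm
          · rfl)
        induction hw using Subgroup.closure_induction with
        | mem c hc =>
          rcases hc with rfl | rfl
          · rw [← hx, pow_orderOf_eq_one]
          · rw [← hy, pow_orderOf_eq_one]
        | one => exact one_pow 2
        | mul c d hc hd h1 h2 =>
          rw [(show Commute c d from
            congrArg Subtype.val (hE.is_comm.comm ⟨c, hc⟩ ⟨d, hd⟩)).mul_pow, h1, h2, one_mul]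
        | inv c _ h1 => rw [inv_pow, h1, inv_one]
      obtain ⟨S, hS⟩ := (show IsPGroup 2 ↥(closure ({x, y} : Set G)) from
        fun w => ⟨1, Subtype.ext (by simpa using hpow w w.2)⟩).exists_le_sylow
      obtain ⟨g, rfl⟩ := MulAction.exists_smul_eq G P S
      have hmemP : ∀ w ∈ closure ({x, y} : Set G), g⁻¹ * w * g ∈ (P : Subgroup G) := by
        intro w hw
        obtain ⟨v, hv, hvw⟩ := hS hw
        change g * v * g⁻¹ = w at hvw
        rw [← hvw]
        simp only [mul_assoc, inv_mul_cancel, inv_mul_cancel_left, mul_one]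
        exact hv
      have hx' := hmemP x (subset_closure (Set.mem_insert _ _))
      have hy' := hmemP y (subset_closure (Set.mem_insert_of_mem _ rfl))
      have hsq : ∀ {w : G}, orderOf w = 2 → (g⁻¹ * w * g) ^ 2 = 1 := fun {w} hw => by
        rw [show g⁻¹ * w * g = g⁻¹ * w * g⁻¹⁻¹ by rw [inv_inv], conj_pow, ← hw, pow_orderOf_eq_one,
          mul_one, mul_inv_cancel]
      have hy1 : (⟨_, hy'⟩ : ↥(P : Subgroup G)) ≠ 1 := fun h => by
        have h' : g⁻¹ * y * g = 1 := congrArg Subtype.val h
        have : y = 1 := by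
          calc y = g * (g⁻¹ * y * g) * g⁻¹ := by group
            _ = 1 := by rw [h']; group
        rw [this, orderOf_one] at hy; omega
      obtain ⟨i, hi⟩ := huniqP ⟨_, hx'⟩ ⟨_, hy'⟩ (Subtype.ext (hsq hx)) (Subtype.ext (hsq hy)) hy1
      have hxy' : x = y ^ i := by
        have h' : (g⁻¹ * y * g) ^ i = g⁻¹ * x * g := by simpa using congrArg Subtype.val hi
        rw [show g⁻¹ * y * g = g⁻¹ * y * g⁻¹⁻¹ by rw [inv_inv], conj_zpow, inv_inv] at h'
        exact (mul_left_cancel (mul_right_cancel h')).symm
      rcases Int.even_or_odd i with ⟨j, rfl⟩ | ⟨j, rfl⟩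
      · rw [hxy', ← two_mul, zpow_mul, zpow_two, ← sq, ← hy, pow_orderOf_eq_one, one_zpow,
          orderOf_one] at hx
        omega
      · rw [hxy', zpow_add, zpow_one, zpow_mul, zpow_two, ← sq, ← hy, pow_orderOf_eq_one, one_zpow,
          one_mul])
    P.isPGroup' (x := ((e.symm (QuaternionGroup.xa 0) : ↥(P : Subgroup G)) : G))
    (y := ((e.symm (QuaternionGroup.xa 1) : ↥(P : Subgroup G)) : G))
    (e.symm _).2 (e.symm _).2 (h4 0) (h4 1)
  obtain ⟨i, hi⟩ := hmem
  simp only at hi
  have h1 : e.symm (QuaternionGroup.xa 1 ^ i) =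
      e.symm (QuaternionGroup.xa 0 * QuaternionGroup.xa 1 * (QuaternionGroup.xa 0)⁻¹) := by
    apply Subtype.ext
    rw [map_zpow, map_mul, map_mul, map_inv]
    simpa using hi
  have h2 := e.symm.injective h1
  -- the powers of `xa 1`
  have hodd : ∀ j : ℤ, (QuaternionGroup.xa (1 : ZMod (2 * 2 ^ m))) ^ j ∈
      ({1, QuaternionGroup.a ((2 ^ m : ℕ) : ZMod (2 * 2 ^ m)), QuaternionGroup.xa 1,
        QuaternionGroup.xa (1 + ((2 ^ m : ℕ) : ZMod (2 * 2 ^ m)))} :
          Set (QuaternionGroup (2 ^ m))) := by
    intro j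
    have hn : ((2 ^ m : ℕ) : ZMod (2 * 2 ^ m)) + ((2 ^ m : ℕ) : ZMod (2 * 2 ^ m)) = 0 := by
      rw [← Nat.cast_add, ← two_mul, ZMod.natCast_self]
    induction j using Int.induction_on with
    | zero => simp
    | succ j ih =>
      rw [zpow_add_one]
      rcases ih with h | h | h | h <;> rw [h]
      · simp
      · rw [QuaternionGroup.a_mul_xa]
        right; right; right
        simp only [Set.mem_singleton_iff, QuaternionGroup.xa.injEq]
        linear_combination hn.symm
      · simp
      · rw [QuaternionGroup.xa_mul_xa]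
        left
        rw [QuaternionGroup.one_def, QuaternionGroup.a.injEq]
        linear_combination 0 * hn
    | pred j ih =>
      rw [zpow_sub_one, show (QuaternionGroup.xa (1 : ZMod (2 * 2 ^ m)))⁻¹ =
        QuaternionGroup.xa (((2 ^ m : ℕ) : ZMod (2 * 2 ^ m)) + 1) from rfl]
      rcases ih with h | h | h | h <;> rw [h]
      · simp [add_comm]
      · rw [QuaternionGroup.a_mul_xa]
        right; right; left
        simp
      · rw [QuaternionGroup.xa_mul_xa]
        left
        rw [QuaternionGroup.one_def, QuaternionGroup.a.injEq]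
        linear_combination hn
      · rw [QuaternionGroup.xa_mul_xa]
        right; left
        rw [QuaternionGroup.a.injEq]
        ring
  have h3 := hodd i
  rw [h2, QuaternionGroup.xa_mul_xa, show (QuaternionGroup.xa (0 : ZMod (2 * 2 ^ m)))⁻¹ =
    QuaternionGroup.xa (((2 ^ m : ℕ) : ZMod (2 * 2 ^ m)) + 0) from rfl, QuaternionGroup.a_mul_xa] at h3
  simp only [Set.mem_insert_iff, Set.mem_singleton_iff, QuaternionGroup.one_def,
    reduceCtorEq, QuaternionGroup.xa.injEq, false_or] at h3
  have hsmall : 2 ^ m ∣ 2 := by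
    rcases h3 with h | h
    · have h' : ((2 : ℕ) : ZMod (2 * 2 ^ m)) = 0 := by push_cast; linear_combination -h
      rw [ZMod.natCast_eq_zero_iff] at h'
      exact (dvd_mul_left _ 2).trans h'
    · have h' : ((2 + 2 ^ m : ℕ) : ZMod (2 * 2 ^ m)) = 0 := by push_cast at h ⊢; linear_combination -h
      rw [ZMod.natCast_eq_zero_iff] at h'
      exact (Nat.dvd_add_left dvd_rfl).mp ((dvd_mul_left _ 2).trans h')
  have := (Nat.pow_dvd_pow_iff_le_right (by norm_num : 1 < 2)).mp (by simpa using hsmall : 2 ^ m ∣ 2 ^ 1)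
  omega

end CfsgLib.AbelianConj
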